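import Mathlib
import Groth.Prelude.Def_AlgSt5
import Groth.Prelude.Def_ChGrp
import Groth.Agent.Lib.Helper3.LocSec
import Groth.Agent.Lib.Helper3.LocSecComp

/-!
# Relative pseudo-torsors on points (helper3)

Toolkit for `[Z/H] ≃ [G ×^H Z / G]`: points calculus for a relative pseudo-torsor
`IsPullback a.act (snd G E) π π`, and the fact that an equivariant morphism of pseudo-torsors
covering `b` is cartesian over `b` when the source has sections locally.
-/

set_option autoImplicit false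

universe u

open CategoryTheory CategoryTheory.Limits MonoidalCategory CartesianMonoidalCategory MonObj GrpObj
  AlgebraicGeometry

namespace Groth.Agent.H3.BalQ

section Cat

variable {C : Type*} [Category C]

/-- a commutative square is cartesian as soon as points lift, uniquely -/
lemma isPullback_of_lift {P X Y Z : C} {fst : P ⟶ X} {snd : P ⟶ Y} {f : X ⟶ Z} {g : Y ⟶ Z}
    (w : fst ≫ f = snd ≫ g)
    (hex : ∀ {W : C} (x : W ⟶ X) (y : W ⟶ Y), x ≫ f = y ≫ g →
      ∃ l : W ⟶ P, l ≫ fst = x ∧ l ≫ snd = y)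
    (huniq : ∀ {W : C} (l l' : W ⟶ P), l ≫ fst = l' ≫ fst → l ≫ snd = l' ≫ snd → l = l') :
    IsPullback fst snd f g := by
  refine ⟨⟨w⟩, ⟨PullbackCone.IsLimit.mk w (fun s => (hex s.fst s.snd s.condition).choose)
    (fun s => (hex s.fst s.snd s.condition).choose_spec.1)
    (fun s => (hex s.fst s.snd s.condition).choose_spec.2)
    (fun s m h1 h2 => huniq _ _ (h1.trans (hex s.fst s.snd s.condition).choose_spec.1.symm)
      (h2.trans (hex s.fst s.snd s.condition).choose_spec.2.symm))⟩⟩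

end Cat

variable {S : Scheme.{u}}

section Loc

/-- local sections pass to base changes -/
lemma loc_of_isPullback (K : Precoverage Scheme.{u}) [K.IsStableUnderBaseChange]
    {A B A' B' : Over S} {f' : A' ⟶ B'} {i₁ : A' ⟶ A} {i₂ : B' ⟶ B} {f : A ⟶ B}
    (sq : IsPullback f' i₁ i₂ f)
    (h : NonAbH1.IsLocallyTrivialFor K (Over.mk f.left : Over B.left)) :
    NonAbH1.IsLocallyTrivialFor K (Over.mk f'.left : Over B'.left) := by
  obtain ⟨R, hR, hsec⟩ := h
  have sqL : IsPullback f'.left i₁.left i₂.left f.left := IsPullback.map (Over.forget S) sq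
  refine ⟨R.pullbackArrows i₂.left, Precoverage.pullbackArrows_mem i₂.left hR, ?_⟩
  rintro S' g ⟨Z, h, hh⟩
  obtain ⟨s, hs⟩ := hsec h hh
  have hs' : s ≫ f.left = h := hs
  refine ⟨sqL.lift (pullback.snd h i₂.left) (pullback.fst h i₂.left ≫ s) ?_, sqL.lift_fst _ _ _⟩
  rw [Category.assoc, hs']
  exact pullback.condition.symm

/-- if a composite has local sections so does its second factor -/
lemma loc_of_comp (K : Precoverage Scheme.{u}) {X Y Z : Scheme.{u}} (f : X ⟶ Y) (g : Y ⟶ Z)
    (h : NonAbH1.IsLocallyTrivialFor K (Over.mk (f ≫ g) : Over Z)) :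
    NonAbH1.IsLocallyTrivialFor K (Over.mk g : Over Z) := by
  obtain ⟨R, hR, hsec⟩ := h
  refine ⟨R, hR, fun S' r hr => ?_⟩
  obtain ⟨s, hs⟩ := hsec r hr
  refine ⟨s ≫ f, ?_⟩
  rw [Category.assoc]
  exact hs

/-- a morphism of `S`-schemes with sections locally for a topology coarser than fpqc is a
universal effective epimorphism -/
lemma uee_of_loc {K : Precoverage Scheme.{u}} (hK : K ≤ Scheme.fpqcPrecoverage) {A B : Over S}
    (f : A ⟶ B) (h : NonAbH1.IsLocallyTrivialFor K (Over.mk f.left : Over B.left)) :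
    UEE (Over S) f :=
  LocSec.uee_of_isLocallyTrivialFor_fpqc f (LocSec.isLocallyTrivialFor_mono hK h)

end Loc

section PT

variable {G : Over S} [GrpObj G]

lemma inv_act_act {E : Over S} (a : AlgGrp.Action G E) {W : Over S} (g : W ⟶ G) (e : W ⟶ E) :
    lift g⁻¹ (lift g e ≫ a.act) ≫ a.act = e := by
  rw [← AlgGrp.Action.lift_mul_act, _root_.inv_mul_cancel, AlgGrp.Action.lift_one_act]

lemma act_inv_act {E : Over S} (a : AlgGrp.Action G E) {W : Over S} (g : W ⟶ G) (e : W ⟶ E) :
    lift g (lift g⁻¹ e ≫ a.act) ≫ a.act = e := by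
  rw [← AlgGrp.Action.lift_mul_act, _root_.mul_inv_cancel, AlgGrp.Action.lift_one_act]

/-- equivariance on points -/
lemma eqv_pt {E E' : Over S} {a : AlgGrp.Action G E} {a' : AlgGrp.Action G E'} {f : E ⟶ E'}
    (eqv : a.act ≫ f = (G ◁ f) ≫ a'.act) {W : Over S} (g : W ⟶ G) (e : W ⟶ E) :
    (lift g e ≫ a.act) ≫ f = lift g (e ≫ f) ≫ a'.act := by
  rw [Category.assoc, eqv, lift_whiskerLeft_assoc]

/-- equivariance on points, right-associated form -/
lemma eqv_pt' {E E' : Over S} {a : AlgGrp.Action G E} {a' : AlgGrp.Action G E'} {f : E ⟶ E'}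
    (eqv : a.act ≫ f = (G ◁ f) ≫ a'.act) {W : Over S} (g : W ⟶ G) (e : W ⟶ E) :
    lift g e ≫ a.act ≫ f = lift g (e ≫ f) ≫ a'.act := by
  rw [eqv, lift_whiskerLeft_assoc]

lemma act_cancel_left {E : Over S} (a : AlgGrp.Action G E) {W : Over S} (g : W ⟶ G)
    (e e' : W ⟶ E) (h : lift g e ≫ a.act = lift g e' ≫ a.act) : e = e' := by
  rw [← inv_act_act a g e, h, inv_act_act]

variable {E T : Over S} {a : AlgGrp.Action G E} {π : E ⟶ T}
  (cart : IsPullback a.act (snd G E) π π)

include cart in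
lemma act_π {W : Over S} (g : W ⟶ G) (e : W ⟶ E) : (lift g e ≫ a.act) ≫ π = e ≫ π := by
  rw [Category.assoc, cart.w, lift_snd_assoc]

include cart in
lemma act_π' {W : Over S} (g : W ⟶ G) (e : W ⟶ E) : lift g e ≫ a.act ≫ π = e ≫ π := by
  rw [cart.w, lift_snd_assoc]

include cart in
/-- transitivity on points -/
lemma exists_dvd {W : Over S} (x y : W ⟶ E) (h : x ≫ π = y ≫ π) :
    ∃ g : W ⟶ G, lift g y ≫ a.act = x := by
  refine ⟨cart.lift x y h ≫ fst G E, ?_⟩
  have e : lift (cart.lift x y h ≫ fst G E) y = cart.lift x y h := by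
    apply CartesianMonoidalCategory.hom_ext
    · rw [lift_fst]
    · rw [lift_snd, cart.lift_snd]
  rw [e, cart.lift_fst]

include cart in
/-- freeness on points -/
lemma dvd_unique {W : Over S} (g g' : W ⟶ G) (y : W ⟶ E)
    (h : lift g y ≫ a.act = lift g' y ≫ a.act) : g = g' := by
  have e : lift g y = lift g' y := by
    apply cart.hom_ext
    · exact h
    · rw [lift_snd, lift_snd]
  have := congrArg (fun t => t ≫ fst G E) e
  simpa using this

end PT

section TorsCart

variable {G : Over S} [GrpObj G]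

/-- **An equivariant morphism of pseudo-torsors is cartesian** over the map of bases, provided the
structure map of the source is a universal effective epimorphism. -/
theorem torsCart {EA TA EB TB : Over S} {aA : AlgGrp.Action G EA} {πA : EA ⟶ TA}
    (cartA : IsPullback aA.act (snd G EA) πA πA) (hπA : UEE (Over S) πA)
    {aB : AlgGrp.Action G EB} {πB : EB ⟶ TB} (cartB : IsPullback aB.act (snd G EB) πB πB)
    (b : TA ⟶ TB) (f : EA ⟶ EB) (eqv : aA.act ≫ f = (G ◁ f) ≫ aB.act)
    (w : f ≫ πB = πA ≫ b) : IsPullback f πA πB b := by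
  have U : ∀ {V : Over S} (e₁ e₂ : V ⟶ EA), e₁ ≫ f = e₂ ≫ f → e₁ ≫ πA = e₂ ≫ πA → e₁ = e₂ := by
    intro V e₁ e₂ h1 h2
    obtain ⟨d, hd⟩ := exists_dvd cartA e₁ e₂ h2
    have h3 : lift d (e₂ ≫ f) ≫ aB.act = lift (1 : V ⟶ G) (e₂ ≫ f) ≫ aB.act := by
      rw [← eqv_pt eqv, hd, h1, AlgGrp.Action.lift_one_act]
    have hd1 : d = 1 := dvd_unique cartB d 1 (e₂ ≫ f) h3
    rw [← hd, hd1, AlgGrp.Action.lift_one_act]
  refine isPullback_of_lift w ?_ (fun l l' h1 h2 => U l l' h1 h2)
  intro W y x hyx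
  have sq : IsPullback (pullback.fst x πA) (pullback.snd x πA) x πA :=
    IsPullback.of_hasPullback x πA
  haveI : EffectiveEpi (pullback.fst x πA) := hπA (pullback.snd x πA) x (pullback.fst x πA) sq
  have h4 : (pullback.fst x πA ≫ y) ≫ πB = (pullback.snd x πA ≫ f) ≫ πB := by
    rw [Category.assoc, hyx, ← Category.assoc, pullback.condition, Category.assoc, Category.assoc,
      w]
  obtain ⟨g, hg⟩ := exists_dvd cartB (pullback.fst x πA ≫ y) (pullback.snd x πA ≫ f) h4
  obtain ⟨e', he'⟩ : ∃ e' : pullback x πA ⟶ EA, e' = lift g (pullback.snd x πA) ≫ aA.act :=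
    ⟨_, rfl⟩
  have he'f : e' ≫ f = pullback.fst x πA ≫ y := by rw [he', eqv_pt eqv, hg]
  have he'π : e' ≫ πA = pullback.fst x πA ≫ x := by
    rw [he', act_π cartA, pullback.condition]
  have hdesc : ∀ {V : Over S} (u₁ u₂ : V ⟶ pullback x πA),
      u₁ ≫ pullback.fst x πA = u₂ ≫ pullback.fst x πA → u₁ ≫ e' = u₂ ≫ e' := by
    intro V u₁ u₂ hu
    apply U
    · rw [Category.assoc, Category.assoc, he'f, ← Category.assoc, ← Category.assoc, hu]
    · rw [Category.assoc, Category.assoc, he'π, ← Category.assoc, ← Category.assoc, hu]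
  refine ⟨EffectiveEpi.desc (pullback.fst x πA) e' hdesc, ?_, ?_⟩
  · rw [← cancel_epi (pullback.fst x πA), ← Category.assoc, EffectiveEpi.fac, he'f]
  · rw [← cancel_epi (pullback.fst x πA), ← Category.assoc, EffectiveEpi.fac, he'π]

end TorsCart

end Groth.Agent.H3.BalQ
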