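import Mathlib
import Groth.Prelude.Def_AlgSt5
import Groth.Prelude.Def_ChGrp
import Groth.Agent.H4.BpA
import Groth.Agent.Lib.Helper3.BalQ.Basic

/-!
# The functor `[Y/G] ⟶ [Z/H]` for a balanced product `Y = G ×^H Z`, on objects (helper3)

An object `(E ⟶ T, φ : E ⟶ Y)` of `[Y/G]` goes to `E ×_Y Z ⟶ T`, the fibre product along
`z ↦ j(1, z)`, with `H` acting by `h • (e, z) = (i(h) e, h z)`.
-/

set_option autoImplicit false

universe u

open CategoryTheory CategoryTheory.Limits MonoidalCategory CartesianMonoidalCategory MonObj GrpObj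
  AlgebraicGeometry

namespace Groth.Agent.H3.BalQ

open Groth.Agent.H4

section MA

variable {S : Scheme.{u}} {K : Precoverage Scheme.{u}} {G : Over S} [GrpObj G] {Y : Over S}
  {aY : AlgGrp.Action G Y} (A : AlgSt.QuotObj K G aY) {PA : Over S} (pE : PA ⟶ A.P)

/-- the map `G × (E ×_Y Z) ⟶ E`, `(g, (e, z)) ↦ g e` -/
noncomputable def mA : G ⊗ PA ⟶ A.P := (G ◁ pE) ≫ A.act.act

@[reassoc]
lemma mA_pt {W : Over S} (g : W ⟶ G) (p : W ⟶ PA) :
    lift g p ≫ mA A pE = lift g (p ≫ pE) ≫ A.act.act := by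
  rw [mA, lift_whiskerLeft_assoc]

end MA

variable {S : Scheme.{u}} {K : Precoverage Scheme.{u}} {G H : Over S} [GrpObj G] [GrpObj H]
  (i : H ⟶ G) [IsMonHom i] {Z Y : Over S} (aZ : AlgGrp.Action H Z) (aY : AlgGrp.Action G Y)
  (j : G ⊗ Z ⟶ Y) (hY : ChGrp.IsBalProd K i aZ aY j)

section Pts

include hY in
lemma j_mul {W : Over S} (g g' : W ⟶ G) (z : W ⟶ Z) :
    lift (g * g') z ≫ j = lift g (lift g' z ≫ j) ≫ aY.act :=
  BpA.j_equiv aY j hY.1 g g' z

include hY in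
lemma j_twist {W : Over S} (h : W ⟶ H) (g : W ⟶ G) (z : W ⟶ Z) :
    lift (g * (h ≫ i)⁻¹) (lift h z ≫ aZ.act) ≫ j = lift g z ≫ j :=
  BpA.j_inv i aZ j hY.2.1.w h g z

include hY in
/-- two points of `G × Z` with the same image in `Y` differ by a point of `H` -/
lemma j_exists {W : Over S} (g₁ g₂ : W ⟶ G) (z₁ z₂ : W ⟶ Z)
    (h : lift g₁ z₁ ≫ j = lift g₂ z₂ ≫ j) :
    ∃ h : W ⟶ H, g₁ = g₂ * (h ≫ i)⁻¹ ∧ z₁ = lift h z₂ ≫ aZ.act := by
  have cart := hY.2.1
  obtain ⟨l, hl⟩ : ∃ l, l = cart.lift (lift g₁ z₁) (lift g₂ z₂) h := ⟨_, rfl⟩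
  have h1 : l ≫ (ChGrp.twist i aZ).act = lift g₁ z₁ := by rw [hl, cart.lift_fst]
  have h2 : l ≫ snd H (G ⊗ Z) = lift g₂ z₂ := by rw [hl, cart.lift_snd]
  have e : lift (l ≫ fst H (G ⊗ Z)) (lift g₂ z₂) = l := by
    apply CartesianMonoidalCategory.hom_ext
    · rw [lift_fst]
    · rw [lift_snd, h2]
  rw [← e, ChGrp.lift_twist_act] at h1
  have c1 := congrArg (fun t => t ≫ fst G Z) h1
  have c2 := congrArg (fun t => t ≫ snd G Z) h1
  simp only [lift_fst, lift_snd] at c1 c2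
  exact ⟨l ≫ fst H (G ⊗ Z), c1.symm, c2.symm⟩

include hY in
lemma j_h_unique {W : Over S} (z : W ⟶ Z) (h h' : W ⟶ H) (e1 : h ≫ i = h' ≫ i)
    (e2 : lift h z ≫ aZ.act = lift h' z ≫ aZ.act) : h = h' := by
  have cart := hY.2.1
  have e : lift h (lift (1 : W ⟶ G) z) = lift h' (lift (1 : W ⟶ G) z) := by
    apply cart.hom_ext
    · rw [ChGrp.lift_twist_act, ChGrp.lift_twist_act, e1, e2]
    · rw [lift_snd, lift_snd]
  have := congrArg (fun t => t ≫ fst H (G ⊗ Z)) e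
  simpa using this

end Pts

section Obj

variable (A : AlgSt.QuotObj K G aY) {PA : Over S} {pE : PA ⟶ A.P} {pZ : PA ⟶ Z}
  (sq : IsPullback pE pZ A.φ (BpA.eS j))

include sq in
lemma sq_pt {W : Over S} (p : W ⟶ PA) :
    p ≫ pE ≫ A.φ = lift (1 : W ⟶ G) (p ≫ pZ) ≫ j := by
  rw [sq.w, ← Category.assoc p pZ (BpA.eS j), BpA.comp_eS]

include hY sq in
lemma act_w :
    ((i ▷ PA) ≫ (G ◁ pE) ≫ A.act.act) ≫ A.φ = ((H ◁ pZ) ≫ aZ.act) ≫ BpA.eS j := by
  apply AlgGrp.Action.hom_ext_lift₂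
  intro W h p
  have e1 : lift h p ≫ ((i ▷ PA) ≫ (G ◁ pE) ≫ A.act.act) ≫ A.φ
      = lift (h ≫ i) (p ≫ pZ) ≫ j := by
    have := j_mul i aZ aY j hY (h ≫ i) 1 (p ≫ pZ)
    rw [_root_.mul_one] at this
    rw [this, ← sq_pt aY j A sq p]
    simp only [Category.assoc, lift_whiskerRight_assoc, lift_whiskerLeft_assoc]
    rw [eqv_pt' A.eqv, Category.assoc]
  have e2 : lift h p ≫ ((H ◁ pZ) ≫ aZ.act) ≫ BpA.eS j = lift (h ≫ i) (p ≫ pZ) ≫ j := by
    have := j_twist i aZ aY j hY h (h ≫ i) (p ≫ pZ)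
    rw [_root_.mul_inv_cancel] at this
    rw [← this, ← BpA.comp_eS]
    simp only [Category.assoc, lift_whiskerLeft_assoc]
  rw [e1, e2]

/-- the action morphism `(h, (e, z)) ↦ (i(h) e, h z)` -/
noncomputable def actMor : H ⊗ PA ⟶ PA :=
  sq.lift ((i ▷ PA) ≫ (G ◁ pE) ≫ A.act.act) ((H ◁ pZ) ≫ aZ.act) (act_w i aZ aY j hY A sq)

lemma actMor_pE :
    actMor i aZ aY j hY A sq ≫ pE = (i ▷ PA) ≫ (G ◁ pE) ≫ A.act.act := sq.lift_fst _ _ _

lemma actMor_pZ : actMor i aZ aY j hY A sq ≫ pZ = (H ◁ pZ) ≫ aZ.act := sq.lift_snd _ _ _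

@[reassoc]
lemma actMor_pE_pt {W : Over S} (h : W ⟶ H) (p : W ⟶ PA) :
    lift h p ≫ actMor i aZ aY j hY A sq ≫ pE = lift (h ≫ i) (p ≫ pE) ≫ A.act.act := by
  rw [actMor_pE, lift_whiskerRight_assoc, lift_whiskerLeft_assoc]

@[reassoc]
lemma actMor_pZ_pt {W : Over S} (h : W ⟶ H) (p : W ⟶ PA) :
    lift h p ≫ actMor i aZ aY j hY A sq ≫ pZ = lift h (p ≫ pZ) ≫ aZ.act := by
  rw [actMor_pZ, lift_whiskerLeft_assoc]

lemma actMor_pE_pt' {W : Over S} (h : W ⟶ H) (p : W ⟶ PA) :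
    (lift h p ≫ actMor i aZ aY j hY A sq) ≫ pE = lift (h ≫ i) (p ≫ pE) ≫ A.act.act := by
  rw [Category.assoc, actMor_pE_pt]

lemma actMor_pZ_pt' {W : Over S} (h : W ⟶ H) (p : W ⟶ PA) :
    (lift h p ≫ actMor i aZ aY j hY A sq) ≫ pZ = lift h (p ≫ pZ) ≫ aZ.act := by
  rw [Category.assoc, actMor_pZ_pt]

/-- the action of `H` on `E ×_Y Z` -/
noncomputable def psiAct : AlgGrp.Action H PA where
  act := actMor i aZ aY j hY A sq
  one_act := by
    apply sq.hom_ext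
    · apply AlgGrp.Action.hom_ext_lift₂
      intro W u p
      have hu : u ≫ η[H] = 1 := by rw [Hom.one_def, toUnit_unique (toUnit W) u]
      simp only [Category.assoc]
      rw [lift_whiskerRight_assoc, hu, actMor_pE_pt, MonObj.one_comp,
        AlgGrp.Action.lift_one_act, leftUnitor_hom, lift_snd_assoc]
    · apply AlgGrp.Action.hom_ext_lift₂
      intro W u p
      have hu : u ≫ η[H] = 1 := by rw [Hom.one_def, toUnit_unique (toUnit W) u]
      simp only [Category.assoc]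
      rw [lift_whiskerRight_assoc, hu, actMor_pZ_pt, AlgGrp.Action.lift_one_act, leftUnitor_hom,
        lift_snd_assoc]
  mul_act := by
    apply sq.hom_ext
    · apply AlgGrp.Action.hom_ext_lift₃
      intro W h h' p
      simp only [Category.assoc]
      rw [lift_whiskerRight_assoc, ← Hom.mul_def, actMor_pE_pt, MonObj.mul_comp,
        AlgGrp.Action.lift_mul_act, lift_lift_associator_hom_assoc, lift_whiskerLeft_assoc,
        actMor_pE_pt, actMor_pE_pt']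
    · apply AlgGrp.Action.hom_ext_lift₃
      intro W h h' p
      simp only [Category.assoc]
      rw [lift_whiskerRight_assoc, ← Hom.mul_def, actMor_pZ_pt, AlgGrp.Action.lift_mul_act,
        lift_lift_associator_hom_assoc, lift_whiskerLeft_assoc, actMor_pZ_pt, actMor_pZ_pt']

/-- the structure map of `E ×_Y Z ⟶ T` is a pseudo-torsor under `H` -/
lemma psi_cart :
    IsPullback (actMor i aZ aY j hY A sq) (snd H PA) (pE ≫ A.π) (pE ≫ A.π) := by
  refine isPullback_of_lift ?_ ?_ ?_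
  · apply AlgGrp.Action.hom_ext_lift₂
    intro W h p
    rw [actMor_pE_pt_assoc, act_π' A.cart, lift_snd_assoc, Category.assoc]
  · intro W x y hxy
    have hxy' : (x ≫ pE) ≫ A.π = (y ≫ pE) ≫ A.π := by
      rw [Category.assoc, Category.assoc]
      exact hxy
    obtain ⟨g, hg⟩ := exists_dvd A.cart (x ≫ pE) (y ≫ pE) hxy'
    have hj : lift (1 : W ⟶ G) (x ≫ pZ) ≫ j = lift g (y ≫ pZ) ≫ j := by
      have h1 := sq_pt aY j A sq x
      rw [← Category.assoc, ← hg, Category.assoc, eqv_pt' A.eqv, Category.assoc, sq_pt aY j A sq y,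
        ← j_mul i aZ aY j hY, _root_.mul_one] at h1
      exact h1.symm
    obtain ⟨h, h1, h2⟩ := j_exists i aZ aY j hY 1 g (x ≫ pZ) (y ≫ pZ) hj
    have hgi : g = h ≫ i := mul_inv_eq_one.mp h1.symm
    refine ⟨lift h y, ?_, lift_snd _ _⟩
    apply sq.hom_ext
    · rw [actMor_pE_pt', ← hgi, hg]
    · rw [actMor_pZ_pt', h2]
  · intro W l l' h1 h2
    obtain ⟨h, p, rfl⟩ := BpA.exists_lift_eq l
    obtain ⟨h', p', rfl⟩ := BpA.exists_lift_eq l'
    have hp : p = p' := by simpa using h2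
    subst hp
    have e1 := congrArg (fun t => t ≫ pE) h1
    have e2 := congrArg (fun t => t ≫ pZ) h1
    simp only [actMor_pE_pt', actMor_pZ_pt'] at e1 e2
    have hi : h ≫ i = h' ≫ i := dvd_unique A.cart _ _ _ e1
    rw [j_h_unique i aZ aY j hY (p ≫ pZ) h h' hi e2]

include hY sq in
/-- `G × (E ×_Y Z) ⟶ E` is the base change of `j : G × Z ⟶ Y` along `φ : E ⟶ Y` -/
lemma mA_cart : IsPullback (mA A pE) (G ◁ pZ) A.φ j := by
  have hw : ∀ {W : Over S} (g : W ⟶ G) (p : W ⟶ PA),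
      lift g p ≫ mA A pE ≫ A.φ = lift g (p ≫ pZ) ≫ j := by
    intro W g p
    rw [mA_pt_assoc, eqv_pt' A.eqv, Category.assoc, sq_pt aY j A sq, ← j_mul i aZ aY j hY,
      _root_.mul_one]
  refine isPullback_of_lift ?_ ?_ ?_
  · apply AlgGrp.Action.hom_ext_lift₂
    intro W g p
    rw [hw, lift_whiskerLeft_assoc]
  · intro W e w' hew
    obtain ⟨g, z, rfl⟩ := BpA.exists_lift_eq w'
    have hc : (lift g⁻¹ e ≫ A.act.act) ≫ A.φ = z ≫ BpA.eS j := by
      rw [eqv_pt A.eqv, hew, ← j_mul i aZ aY j hY, _root_.inv_mul_cancel, BpA.comp_eS]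
    refine ⟨lift g (sq.lift (lift g⁻¹ e ≫ A.act.act) z hc), ?_, ?_⟩
    · rw [mA_pt, sq.lift_fst, act_inv_act]
    · rw [lift_whiskerLeft, sq.lift_snd]
  · intro W l l' h1 h2
    obtain ⟨g, p, rfl⟩ := BpA.exists_lift_eq l
    obtain ⟨g', p', rfl⟩ := BpA.exists_lift_eq l'
    rw [lift_whiskerLeft, lift_whiskerLeft] at h2
    have hg : g = g' := by simpa using congrArg (fun t => t ≫ fst G Z) h2
    have hz : p ≫ pZ = p' ≫ pZ := by simpa using congrArg (fun t => t ≫ snd G Z) h2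
    subst hg
    rw [mA_pt, mA_pt] at h1
    have he : p ≫ pE = p' ≫ pE := act_cancel_left A.act g _ _ h1
    rw [sq.hom_ext he hz]

include hY sq in
lemma mA_loc [K.IsStableUnderBaseChange] :
    NonAbH1.IsLocallyTrivialFor K (Over.mk (mA A pE).left : Over A.P.left) :=
  loc_of_isPullback K (mA_cart i aZ aY j hY A sq) hY.2.2

include hY sq in
lemma psi_loc [K.IsStableUnderBaseChange] [K.IsStableUnderComposition] :
    NonAbH1.IsLocallyTrivialFor K (Over.mk (pE ≫ A.π).left : Over A.base.left) := by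
  have h2 := LocSec.isLocallyTrivialFor_comp K (mA A pE).left A.π.left
    (mA_loc i aZ aY j hY A sq) A.loc
  have e : mA A pE ≫ A.π = snd G PA ≫ pE ≫ A.π := by
    rw [mA, Category.assoc, A.cart.w, whiskerLeft_snd_assoc]
  have e' : (mA A pE).left ≫ A.π.left = (snd G PA).left ≫ (pE ≫ A.π).left :=
    congrArg CommaMorphism.left e
  rw [e'] at h2
  exact loc_of_comp K _ _ h2

/-- the image of an object of `[Y/G]` in `[Z/H]` -/
noncomputable def psiObj [K.IsStableUnderBaseChange] [K.IsStableUnderComposition] :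
    AlgSt.QuotObj K H aZ where
  base := A.base
  P := PA
  act := psiAct i aZ aY j hY A sq
  π := pE ≫ A.π
  cart := psi_cart i aZ aY j hY A sq
  loc := psi_loc i aZ aY j hY A sq
  φ := pZ
  eqv := actMor_pZ i aZ aY j hY A sq

end Obj

end Groth.Agent.H3.BalQ
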