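import Mathlib
import Groth.Prelude.Def_AlgSt5
import Groth.Prelude.Def_ChGrp
import Groth.Agent.H4.BpA
import Groth.Agent.Lib.Helper3.BalQ.Obj

/-!
# The functor `[Y/G] ⟶ [Z/H]` for a balanced product `Y = G ×^H Z` (helper3)
-/

set_option autoImplicit false

universe u

open CategoryTheory CategoryTheory.Limits MonoidalCategory CartesianMonoidalCategory MonObj GrpObj
  AlgebraicGeometry

namespace Groth.Agent.H3.BalQ

open Groth.Agent.H4

variable {S : Scheme.{u}} {K : Precoverage Scheme.{u}} {G H : Over S} [GrpObj G] [GrpObj H]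
  (i : H ⟶ G) [IsMonHom i] {Z Y : Over S} (aZ : AlgGrp.Action H Z) (aY : AlgGrp.Action G Y)
  (j : G ⊗ Z ⟶ Y) (hY : ChGrp.IsBalProd K i aZ aY j)

section Mor

variable {A B : AlgSt.QuotObj K G aY} (f : A ⟶ B)
  {PA : Over S} {pEA : PA ⟶ A.P} {pZA : PA ⟶ Z} (sqA : IsPullback pEA pZA A.φ (BpA.eS j))
  {PB : Over S} {pEB : PB ⟶ B.P} {pZB : PB ⟶ Z} (sqB : IsPullback pEB pZB B.φ (BpA.eS j))

/-- the induced map of fibre products -/
noncomputable def topMor : PA ⟶ PB :=
  sqB.lift (pEA ≫ f.top) pZA (by rw [Category.assoc, f.wφ, sqA.w])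

@[reassoc]
lemma topMor_pE : topMor aY j f sqA sqB ≫ pEB = pEA ≫ f.top := sqB.lift_fst _ _ _

@[reassoc]
lemma topMor_pZ : topMor aY j f sqA sqB ≫ pZB = pZA := sqB.lift_snd _ _ _

lemma topMor_cart :
    IsPullback (topMor aY j f sqA sqB) (pEA ≫ A.π) (pEB ≫ B.π) f.base := by
  have hl : IsPullback (topMor aY j f sqA sqB) pEA pEB f.top := by
    refine IsPullback.of_right ?_ (topMor_pE aY j f sqA sqB) sqB.flip
    rw [topMor_pZ, f.wφ]
    exact sqA.flip
  exact hl.paste_vert f.cart

variable [K.IsStableUnderBaseChange] [K.IsStableUnderComposition]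

/-- the functor on morphisms -/
noncomputable def psiMap : psiObj i aZ aY j hY A sqA ⟶ psiObj i aZ aY j hY B sqB where
  base := f.base
  top := topMor aY j f sqA sqB
  eqv := by
    change actMor i aZ aY j hY A sqA ≫ topMor aY j f sqA sqB
      = (H ◁ topMor aY j f sqA sqB) ≫ actMor i aZ aY j hY B sqB
    apply sqB.hom_ext
    · apply AlgGrp.Action.hom_ext_lift₂
      intro W h p
      simp only [Category.assoc]
      rw [topMor_pE, actMor_pE_pt_assoc, eqv_pt' f.eqv, lift_whiskerLeft_assoc, actMor_pE_pt]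
      simp only [Category.assoc, topMor_pE]
    · apply AlgGrp.Action.hom_ext_lift₂
      intro W h p
      simp only [Category.assoc]
      rw [topMor_pZ, actMor_pZ_pt, lift_whiskerLeft_assoc, actMor_pZ_pt]
      simp only [Category.assoc, topMor_pZ]
  cart := topMor_cart aY j f sqA sqB
  wφ := topMor_pZ aY j f sqA sqB

end Mor

section Functor

variable [K.IsStableUnderBaseChange] [K.IsStableUnderComposition]

omit [K.IsStableUnderBaseChange] [K.IsStableUnderComposition] in
/-- the chosen fibre product -/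
lemma sqOf (A : AlgSt.QuotObj K G aY) :
    IsPullback (pullback.fst A.φ (BpA.eS j)) (pullback.snd A.φ (BpA.eS j)) A.φ (BpA.eS j) :=
  IsPullback.of_hasPullback _ _

/-- the functor `[Y/G] ⟶ [Z/H]` -/
noncomputable def psiFunctor : AlgSt.QuotObj K G aY ⥤ AlgSt.QuotObj K H aZ where
  obj A := psiObj i aZ aY j hY A (sqOf aY j A)
  map {A B} f := psiMap i aZ aY j hY f (sqOf aY j A) (sqOf aY j B)
  map_id A := by
    apply AlgSt.QuotObj.hom_ext
    · rfl
    · change topMor aY j (𝟙 A) (sqOf aY j A) (sqOf aY j A) = 𝟙 _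
      apply (sqOf aY j A).hom_ext
      · rw [topMor_pE, AlgSt.QuotObj.id_top, Category.comp_id, Category.id_comp]
      · rw [topMor_pZ, Category.id_comp]
  map_comp {A B C} f g := by
    apply AlgSt.QuotObj.hom_ext
    · rfl
    · change topMor aY j (f ≫ g) (sqOf aY j A) (sqOf aY j C)
        = topMor aY j f (sqOf aY j A) (sqOf aY j B) ≫ topMor aY j g (sqOf aY j B) (sqOf aY j C)
      apply (sqOf aY j C).hom_ext
      · rw [topMor_pE, AlgSt.QuotObj.comp_top, Category.assoc, topMor_pE, topMor_pE_assoc]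
      · rw [topMor_pZ, Category.assoc, topMor_pZ, topMor_pZ]

/-- the functor `[Y/G] ⟶ [Z/H]` over `(Sch/S)` -/
noncomputable def Psi : AlgSt.QuotSt K G aY ⥤ᵇ AlgSt.QuotSt K H aZ where
  toFunctor := psiFunctor i aZ aY j hY
  w := rfl

end Functor

end Groth.Agent.H3.BalQ
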