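import Mathlib
import Groth.Prelude.Def_AlgSt5
import Groth.Prelude.Def_ChGrp
import Groth.Agent.H4.BpA
import Groth.Agent.Lib.Helper3.BalQ.Fun

/-!
# The functor `[Y/G] ⟶ [Z/H]` is fully faithful (helper3)
-/

set_option autoImplicit false

universe u

open CategoryTheory CategoryTheory.Limits MonoidalCategory CartesianMonoidalCategory MonObj GrpObj
  AlgebraicGeometry

namespace Groth.Agent.H3.BalQ

open Groth.Agent.H4

variable {S : Scheme.{u}} {K : Precoverage Scheme.{u}} {G H : Over S} [GrpObj G] [GrpObj H]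
  (i : H ⟶ G) [IsMonHom i] {Z Y : Over S} (aZ : AlgGrp.Action H Z) (aY : AlgGrp.Action G Y)
  (j : G ⊗ Z ⟶ Y) (hY : ChGrp.IsBalProd K i aZ aY j) (hK : K ≤ Scheme.fpqcPrecoverage)
  [K.IsStableUnderBaseChange] [K.IsStableUnderComposition]

section

variable (A : AlgSt.QuotObj K G aY) {PA : Over S} {pE : PA ⟶ A.P} {pZ : PA ⟶ Z}
  (sq : IsPullback pE pZ A.φ (BpA.eS j))

include hY hK sq in
omit [K.IsStableUnderComposition] in
lemma mA_uee : UEE (Over S) (mA A pE) :=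
  uee_of_loc hK _ (mA_loc i aZ aY j hY A sq)

end

section Faithful

variable {A B : AlgSt.QuotObj K G aY}
  {PA : Over S} {pEA : PA ⟶ A.P} {pZA : PA ⟶ Z} (sqA : IsPullback pEA pZA A.φ (BpA.eS j))
  {PB : Over S} {pEB : PB ⟶ B.P} {pZB : PB ⟶ Z} (sqB : IsPullback pEB pZB B.φ (BpA.eS j))

include hK in
lemma psiMap_injective (f f' : A ⟶ B)
    (h : psiMap i aZ aY j hY f sqA sqB = psiMap i aZ aY j hY f' sqA sqB) : f = f' := by
  have hb : f.base = f'.base := congrArg (fun t => t.base) h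
  have ht : topMor aY j f sqA sqB = topMor aY j f' sqA sqB := congrArg (fun t => t.top) h
  have h1 : pEA ≫ f.top = pEA ≫ f'.top := by
    rw [← topMor_pE aY j f sqA sqB, ht, topMor_pE]
  haveI : Epi (mA A pEA) := (mA_uee i aZ aY j hY hK A sqA).epi
  apply AlgSt.QuotObj.hom_ext hb
  rw [← cancel_epi (mA A pEA)]
  rw [mA, Category.assoc, Category.assoc, f.eqv, f'.eqv,
    ← MonoidalCategory.whiskerLeft_comp_assoc, ← MonoidalCategory.whiskerLeft_comp_assoc, h1]

include hK in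
/-- fullness: a morphism of `[Z/H]` between images comes from a morphism of `[Y/G]` -/
theorem exists_preimage (t : psiObj i aZ aY j hY A sqA ⟶ psiObj i aZ aY j hY B sqB) :
    ∃ f : A ⟶ B, psiMap i aZ aY j hY f sqA sqB = t := by
  obtain ⟨tt, htt⟩ : ∃ tt : PA ⟶ PB, tt = t.top := ⟨t.top, rfl⟩
  obtain ⟨tb, htb⟩ : ∃ tb : A.base ⟶ B.base, tb = t.base := ⟨t.base, rfl⟩
  have tE : ∀ {W : Over S} (h : W ⟶ H) (p : W ⟶ PA),
      (lift h p ≫ actMor i aZ aY j hY A sqA) ≫ tt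
        = lift h (p ≫ tt) ≫ actMor i aZ aY j hY B sqB := by
    intro W h p
    rw [htt]
    exact eqv_pt t.eqv h p
  have tZ : tt ≫ pZB = pZA := by
    rw [htt]
    exact t.wφ
  have tw : tt ≫ pEB ≫ B.π = (pEA ≫ A.π) ≫ tb := by
    rw [htt, htb]
    exact t.cart.w
  -- the map to descend
  obtain ⟨ft, hft⟩ : ∃ ft : G ⊗ PA ⟶ B.P, ft = (G ◁ (tt ≫ pEB)) ≫ B.act.act := ⟨_, rfl⟩
  have ft_pt : ∀ {W : Over S} (g : W ⟶ G) (p : W ⟶ PA),
      lift g p ≫ ft = lift g (p ≫ tt ≫ pEB) ≫ B.act.act := by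
    intro W g p
    rw [hft, lift_whiskerLeft_assoc]
  have key : ∀ {W : Over S} (w₁ w₂ : W ⟶ G ⊗ PA), w₁ ≫ mA A pEA = w₂ ≫ mA A pEA →
      w₁ ≫ ft = w₂ ≫ ft := by
    intro W w₁ w₂ hw
    obtain ⟨g₁, p₁, rfl⟩ := BpA.exists_lift_eq w₁
    obtain ⟨g₂, p₂, rfl⟩ := BpA.exists_lift_eq w₂
    rw [mA_pt, mA_pt] at hw
    have hπ : p₁ ≫ pEA ≫ A.π = p₂ ≫ pEA ≫ A.π := by
      have := congrArg (fun t => t ≫ A.π) hw
      simp only [Category.assoc] at this
      rw [act_π' A.cart, act_π' A.cart] at this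
      simpa using this
    obtain ⟨h, hh⟩ := exists_dvd (psiObj i aZ aY j hY A sqA).cart p₁ p₂ hπ
    have hh' : lift h p₂ ≫ actMor i aZ aY j hY A sqA = p₁ := hh
    have hE : p₁ ≫ pEA = lift (h ≫ i) (p₂ ≫ pEA) ≫ A.act.act := by
      rw [← hh', actMor_pE_pt']
    have hg : g₁ * (h ≫ i) = g₂ := by
      rw [hE, ← AlgGrp.Action.lift_mul_act] at hw
      exact dvd_unique A.cart _ _ _ hw
    have hB : p₁ ≫ tt ≫ pEB = lift (h ≫ i) (p₂ ≫ tt ≫ pEB) ≫ B.act.act := by
      rw [← hh', ← Category.assoc, tE, actMor_pE_pt', Category.assoc]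
    rw [ft_pt, ft_pt, hB, ← AlgGrp.Action.lift_mul_act, hg]
  haveI : EffectiveEpi (mA A pEA) := (mA_uee i aZ aY j hY hK A sqA).effectiveEpi
  obtain ⟨fT, hfT⟩ : ∃ fT : A.P ⟶ B.P, fT = EffectiveEpi.desc (mA A pEA) ft key := ⟨_, rfl⟩
  have hfac : mA A pEA ≫ fT = ft := by rw [hfT, EffectiveEpi.fac]
  have hfac_pt : ∀ {W : Over S} (g : W ⟶ G) (p : W ⟶ PA),
      lift g (p ≫ pEA) ≫ A.act.act ≫ fT = lift g (p ≫ tt ≫ pEB) ≫ B.act.act := by
    intro W g p
    rw [← mA_pt_assoc, hfac, ft_pt]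
  have hfac_pt_assoc : ∀ {W Q : Over S} (g : W ⟶ G) (p : W ⟶ PA) (k : B.P ⟶ Q),
      lift g (p ≫ pEA) ≫ A.act.act ≫ fT ≫ k = lift g (p ≫ tt ≫ pEB) ≫ B.act.act ≫ k := by
    intro W Q g p k
    have := congrArg (fun m => m ≫ k) (hfac_pt g p)
    simpa only [Category.assoc] using this
  -- equivariance
  have heqv : A.act.act ≫ fT = (G ◁ fT) ≫ B.act.act := by
    haveI : Epi (G ◁ mA A pEA) :=
      ((mA_uee i aZ aY j hY hK A sqA).of_isPullback
        (AlgSt.isPullback_whiskerLeft (G := G) (mA A pEA))).epi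
    rw [← cancel_epi (G ◁ mA A pEA)]
    apply AlgGrp.Action.hom_ext_lift₂
    intro W g' w
    obtain ⟨g, p, rfl⟩ := BpA.exists_lift_eq w
    rw [lift_whiskerLeft_assoc, lift_whiskerLeft_assoc, mA_pt, lift_whiskerLeft_assoc,
      ← AlgGrp.Action.lift_mul_act_assoc, hfac_pt, Category.assoc, hfac_pt,
      ← AlgGrp.Action.lift_mul_act]
  -- compatibility with the maps to `Y`
  have hφ : fT ≫ B.φ = A.φ := by
    haveI : Epi (mA A pEA) := (mA_uee i aZ aY j hY hK A sqA).epi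
    rw [← cancel_epi (mA A pEA)]
    apply AlgGrp.Action.hom_ext_lift₂
    intro W g p
    have e : (p ≫ tt ≫ pEB) ≫ B.φ = (p ≫ pEA) ≫ A.φ := by
      have h1 := sq_pt aY j B sqB (p ≫ tt)
      simp only [Category.assoc] at h1
      simp only [Category.assoc]
      rw [sq_pt aY j A sqA p, h1, tZ]
    rw [mA_pt_assoc, mA_pt_assoc, hfac_pt_assoc, eqv_pt' B.eqv, eqv_pt' A.eqv, e]
  -- compatibility with the structure maps
  have hw : fT ≫ B.π = A.π ≫ tb := by
    haveI : Epi (mA A pEA) := (mA_uee i aZ aY j hY hK A sqA).epi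
    rw [← cancel_epi (mA A pEA)]
    apply AlgGrp.Action.hom_ext_lift₂
    intro W g p
    have e1 := congrArg (fun m => m ≫ tb) (act_π' A.cart g (p ≫ pEA))
    simp only [Category.assoc] at e1
    rw [mA_pt_assoc, mA_pt_assoc, hfac_pt_assoc, act_π' B.cart, e1]
    simp only [Category.assoc]
    rw [tw]
    simp only [Category.assoc]
  have hcart : IsPullback fT A.π B.π tb :=
    torsCart A.cart (uee_of_loc hK A.π A.loc) B.cart tb fT heqv hw
  refine ⟨⟨tb, fT, heqv, hcart, hφ⟩, ?_⟩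
  apply AlgSt.QuotObj.hom_ext
  · exact htb
  · change topMor aY j _ sqA sqB = t.top
    rw [← htt]
    apply sqB.hom_ext
    · rw [topMor_pE]
      change pEA ≫ fT = tt ≫ pEB
      have := hfac_pt (1 : PA ⟶ G) (𝟙 PA)
      rw [AlgGrp.Action.lift_one_act_assoc, AlgGrp.Action.lift_one_act, Category.id_comp,
        Category.id_comp] at this
      exact this
    · rw [topMor_pZ, tZ]

end Faithful

section Inst

include hK in
theorem psi_faithful : (psiFunctor i aZ aY j hY).Faithful where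
  map_injective := fun {A B} {f f'} h =>
    psiMap_injective i aZ aY j hY hK (sqOf aY j A) (sqOf aY j B) f f' h

include hK in
theorem psi_full : (psiFunctor i aZ aY j hY).Full where
  map_surjective := fun {A B} t =>
    exists_preimage i aZ aY j hY hK (sqOf aY j A) (sqOf aY j B) t

end Inst

end Groth.Agent.H3.BalQ
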