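import Mathlib
import Groth.Prelude.Def_AlgSt5
import Groth.Prelude.Def_ChGrp
import Groth.Agent.H4.BpA
import Groth.Agent.H4.QstA
import Groth.Agent.H4.QstC
import Groth.Agent.Lib.Helper3.StackMore
import Groth.Agent.Lib.Helper3.FpCalc
import Groth.Agent.Lib.Helper3.QuotShEff
import Groth.Agent.Lib.Helper3.QStk.Main
import Groth.Agent.Lib.Helper3.BalQ.FF

/-!
# `[Z/H] ≃ [G ×^H Z / G]` (helper3)

For a balanced product `Y = G ×^H Z` (through `j : G × Z ⟶ Y`) and `G` affine over `S`, the functor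
`[Y/G] ⟶ [Z/H]`, `(E, φ) ↦ E ×_Y Z`, is an equivalence over `(Sch/S)`: it is fully faithful,
locally essentially surjective, and `[Y/G]` is a stack.
-/

set_option autoImplicit false

universe u

open CategoryTheory CategoryTheory.Limits MonoidalCategory CartesianMonoidalCategory MonObj GrpObj
  AlgebraicGeometry

namespace Groth.Agent.H3.BalQ

open Groth.Agent.H4

section Gen

variable {S : Scheme.{u}} {K : Precoverage Scheme.{u}} {G : Over S} [GrpObj G] {X : Over S}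
  {aX : AlgGrp.Action G X}

/-- the sieve of maps to the base over which the torsor has a section -/
def secSieve (B : AlgSt.QuotObj K G aX) : Sieve B.base where
  arrows V f := ∃ s : V ⟶ B.P, s ≫ B.π = f
  downward_closed := by
    rintro V W f ⟨s, hs⟩ g
    exact ⟨g ≫ s, by rw [Category.assoc, hs]⟩

lemma secSieve_mem (B : AlgSt.QuotObj K G aX) : secSieve B ∈ QuotSh.J K S B.base := by
  refine GrothendieckTopology.superset_covering _ ?_ (QstA.generate_singleton_mem B)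
  rintro V f ⟨W, a, b, hb, rfl⟩
  obtain ⟨⟩ := hb
  exact ⟨a, rfl⟩

lemma isHomLift_of_base {C D : AlgSt.QuotObj K G aX} (φ : C ⟶ D) (f : C.base ⟶ D.base)
    (h : φ.base = f) : (AlgSt.QuotSt K G aX).p.IsHomLift f φ := by
  subst h
  exact IsHomLift.map (AlgSt.QuotObj.forget K G aX) φ

end Gen

variable {S : Scheme.{u}} {K : Precoverage Scheme.{u}} {G H : Over S} [GrpObj G] [GrpObj H]
  (i : H ⟶ G) [IsMonHom i] {Z Y : Over S} (aZ : AlgGrp.Action H Z) (aY : AlgGrp.Action G Y)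
  (j : G ⊗ Z ⟶ Y) (hY : ChGrp.IsBalProd K i aZ aY j)
  [K.IsStableUnderBaseChange] [K.IsStableUnderComposition] [K.HasIsos]

/-- an object of `[Y/G]` with a section whose point of `Y` is `j(1, z)` maps to an object of
`[Z/H]` with a section whose point of `Z` is `z`; such an object maps to any object of `[Z/H]`
with a section over the same `z` -/
lemma exists_hom_of_section (A : AlgSt.QuotObj K G aY) {PA : Over S} {pE : PA ⟶ A.P}
    {pZ : PA ⟶ Z} (sq : IsPullback pE pZ A.φ (BpA.eS j)) (e : A.base ⟶ A.P)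
    (he : e ≫ A.π = 𝟙 A.base) (z : A.base ⟶ Z) (hez : e ≫ A.φ = z ≫ BpA.eS j)
    (B : AlgSt.QuotObj K H aZ) (s : A.base ⟶ B.P) (hs : s ≫ B.φ = z) :
    ∃ φ : psiObj i aZ aY j hY A sq ⟶ B, φ.base = s ≫ B.π := by
  obtain ⟨σ, hσ⟩ : ∃ σ : A.base ⟶ PA, σ = sq.lift e z hez := ⟨_, rfl⟩
  have hσE : σ ≫ pE = e := by rw [hσ, sq.lift_fst]
  have hσZ : σ ≫ pZ = z := by rw [hσ, sq.lift_snd]
  obtain ⟨τ, hτ, -⟩ := QstA.trivHom (psiObj i aZ aY j hY A sq) σ z hσZ
  obtain ⟨τ', hτ', -⟩ := QstA.trivHom B s z hs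
  have hτ1 : τ.base = 𝟙 A.base := by
    rw [hτ]
    change σ ≫ pE ≫ A.π = 𝟙 A.base
    rw [← Category.assoc, hσE, he]
  haveI : IsIso τ.base := by
    rw [hτ1]
    exact IsIso.id A.base
  obtain ⟨e₀, he₀⟩ := QstC.exists_iso_of_isIso_base τ
  have h1 : τ.base ≫ e₀.inv.base = 𝟙 _ := by
    have := congrArg (fun t => t.base) e₀.hom_inv_id
    rw [he₀] at this
    exact this
  have h2 : e₀.inv.base = 𝟙 A.base := by
    rw [hτ1] at h1
    exact (Category.id_comp _).symm.trans h1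
  refine ⟨e₀.inv ≫ τ', ?_⟩
  change e₀.inv.base ≫ τ'.base = s ≫ B.π
  rw [h2, hτ']
  exact Category.id_comp _

/-- the functor `[Y/G] ⟶ [Z/H]` is locally essentially surjective -/
theorem locEssSurj :
    StackMore.LocEssSurj (QuotSh.J K S) (Psi i aZ aY j hY) := by
  intro B
  refine ⟨secSieve B, secSieve_mem B, ?_⟩
  rintro V f ⟨s, rfl⟩
  obtain ⟨z, hz⟩ : ∃ z : V ⟶ Z, z = s ≫ B.φ := ⟨_, rfl⟩
  have he1 : lift (1 : V ⟶ G) (𝟙 V) ≫ snd G V = 𝟙 V := lift_snd _ _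
  have he2 : lift (1 : V ⟶ G) (𝟙 V) ≫ (G ◁ (z ≫ BpA.eS j)) ≫ aY.act = z ≫ BpA.eS j := by
    rw [lift_whiskerLeft_assoc, AlgGrp.Action.lift_one_act, Category.id_comp]
  obtain ⟨φ, hφ⟩ := exists_hom_of_section i aZ aY j hY
    ((AlgSt.quotMap K G aY).obj (QstA.pt (z ≫ BpA.eS j)))
    (sqOf aY j ((AlgSt.quotMap K G aY).obj (QstA.pt (z ≫ BpA.eS j))))
    (lift (1 : V ⟶ G) (𝟙 V)) he1 z he2 B s hz.symm
  exact ⟨(AlgSt.quotMap K G aY).obj (QstA.pt (z ≫ BpA.eS j)), φ, isHomLift_of_base φ _ hφ⟩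

end Groth.Agent.H3.BalQ

namespace Groth.Agent.H3.BalQ

open Groth.Agent.H4

variable {S : Scheme.{u}} {G H : Over S} [GrpObj G] [GrpObj H]
  (i : H ⟶ G) [IsMonHom i] {Z Y : Over S} (aZ : AlgGrp.Action H Z) (aY : AlgGrp.Action G Y)
  (j : G ⊗ Z ⟶ Y)

/-- **`[Z/H] ≃ [G ×^H Z / G]`** for the fppf topology, `G` affine over `S`. -/
theorem isQuotientOf_fppf [IsAffineHom G.hom]
    (hY : ChGrp.IsBalProd Scheme.fppfPrecoverage i aZ aY j) :
    AlgSt.IsQuotientOf Scheme.fppfPrecoverage H aZ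
      (AlgSt.QuotSt Scheme.fppfPrecoverage G aY) := by
  haveI : (Psi i aZ aY j hY).toFunctor.Faithful :=
    psi_faithful i aZ aY j hY Scheme.fppfPrecoverage_le_fpqcPrecoverage
  haveI : (Psi i aZ aY j hY).toFunctor.Full :=
    psi_full i aZ aY j hY Scheme.fppfPrecoverage_le_fpqcPrecoverage
  have hst : Stk.IsStack (QuotSh.J Scheme.fppfPrecoverage S)
      (AlgSt.QuotSt Scheme.fppfPrecoverage G aY) := QStk.isStack_fppf
  have hpre : Stk.IsPrestack (QuotSh.J Scheme.fppfPrecoverage S)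
      (AlgSt.QuotSt Scheme.fppfPrecoverage H aZ) :=
    ⟨QStk.isFibGrpd, fun U R hR => QStk.isPrestackFor (QuotSh.J Scheme.fppfPrecoverage S) hR⟩
  have heq : FibCat.IsEquivOver (Psi i aZ aY j hY) :=
    (StackMore.isEquivOver_iff_locEssSurj _ hst hpre (Psi i aZ aY j hY)).mpr
      (locEssSurj i aZ aY j hY)
  obtain ⟨e, he, -, -⟩ := FpCalc.isEquivOver_symm heq
  exact ⟨e, he⟩

end Groth.Agent.H3.BalQ
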