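import Mathlib
import Groth.Prelude.Def_AlgSt5
import Groth.Prelude.Def_ChGrp
import Groth.Agent.H4.BpA
import Groth.Agent.Lib.Helper3.BalQ.Main

/-!
# `G/H × X` is the balanced product `G ×^H X` (helper3)

For a homogeneous space `Q = G/H` and a `G`-scheme `X`, the map `(g, x) ↦ (g q₀, g x)` exhibits
`Q × X` with the diagonal action as the balanced product of `G` and `X` (restricted action)
along `H`.  Hence `[X/H] ≃ [(G/H × X)/G]`.
-/

set_option autoImplicit false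

universe u

open CategoryTheory CategoryTheory.Limits MonoidalCategory CartesianMonoidalCategory MonObj GrpObj
  AlgebraicGeometry

namespace Groth.Agent.H3.BalQ

open Groth.Agent.H4

variable {S : Scheme.{u}} {K : Precoverage Scheme.{u}} {G H : Over S} [GrpObj G] [GrpObj H]
  (i : H ⟶ G) [IsMonHom i] {X Q : Over S} (aX : AlgGrp.Action G X) (aQ : AlgGrp.Action G Q)
  (q₀ : 𝟙_ (Over S) ⟶ Q)

/-- `(g, x) ↦ (g q₀, g x)` -/
noncomputable def jQ : G ⊗ X ⟶ Q ⊗ X := lift (fst G X ≫ aQ.orbitMap q₀) aX.act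

lemma jQ_pt {W : Over S} (g : W ⟶ G) (x : W ⟶ X) :
    lift g x ≫ jQ aX aQ q₀ = lift (g ≫ aQ.orbitMap q₀) (lift g x ≫ aX.act) := by
  rw [jQ, comp_lift, lift_fst_assoc]

lemma orb_act {W : Over S} (g' g : W ⟶ G) :
    (g' * g) ≫ aQ.orbitMap q₀ = lift g' (g ≫ aQ.orbitMap q₀) ≫ aQ.act := by
  rw [AlgGrp.Action.comp_orbitMap, AlgGrp.Action.comp_orbitMap, AlgGrp.Action.lift_mul_act]

lemma jQ_equivariant :
    AlgGrp.Action.IsEquivariant
      ((NonAbH1.trivialAction G).prod (AlgGrp.Action.trivial G X)) (aQ.prod aX)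
      (jQ aX aQ q₀) := by
  unfold AlgGrp.Action.IsEquivariant
  apply AlgGrp.Action.hom_ext_lift₂
  intro W g' w
  obtain ⟨g, x, rfl⟩ := BpA.exists_lift_eq w
  rw [← Category.assoc, BpA.lift_leftProd_act, jQ_pt, lift_whiskerLeft_assoc, jQ_pt,
    AlgGrp.Action.lift_prod_act, orb_act, AlgGrp.Action.lift_mul_act]

/-- the fibre square of `(g, x) ↦ (g q₀, g x)` over the orbit map -/
lemma jQ_sq : IsPullback (jQ aX aQ q₀) (fst G X) (fst Q X) (aQ.orbitMap q₀) := by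
  refine isPullback_of_lift (by rw [jQ, lift_fst]) ?_ ?_
  · intro W y g hyg
    refine ⟨lift g (lift g⁻¹ (y ≫ snd Q X) ≫ aX.act), ?_, lift_fst _ _⟩
    rw [jQ_pt, act_inv_act, ← hyg, ← comp_lift, lift_fst_snd, Category.comp_id]
  · intro W l l' h1 h2
    obtain ⟨g, x, rfl⟩ := BpA.exists_lift_eq l
    obtain ⟨g', x', rfl⟩ := BpA.exists_lift_eq l'
    rw [lift_fst, lift_fst] at h2
    subst h2
    rw [jQ_pt, jQ_pt] at h1
    have := congrArg (fun t => t ≫ snd Q X) h1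
    simp only [lift_snd] at this
    rw [act_cancel_left aX g x x' this]

variable (hQ : ChGrp.IsHomog K i aQ q₀)

include hQ in
omit [IsMonHom i] in
lemma orb_mul {W : Over S} (g : W ⟶ G) (h : W ⟶ H) :
    (g * (h ≫ i)) ≫ aQ.orbitMap q₀ = g ≫ aQ.orbitMap q₀ := by
  have := congrArg (fun t => lift g h ≫ t) hQ.2.1.w
  simp only [lift_fst_assoc, Category.assoc, lift_whiskerLeft_assoc] at this
  rw [Hom.mul_def, Category.assoc]
  exact this.symm

include hQ in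
omit [IsMonHom i] in
lemma i_inj {W : Over S} (h h' : W ⟶ H) (hi : h ≫ i = h' ≫ i) : h = h' := by
  have e : lift (1 : W ⟶ G) h = lift (1 : W ⟶ G) h' := by
    apply hQ.2.1.hom_ext
    · rw [lift_fst, lift_fst]
    · rw [lift_whiskerLeft_assoc, lift_whiskerLeft_assoc, hi]
  have := congrArg (fun t => t ≫ snd G H) e
  simpa using this

include hQ in
lemma jQ_cart :
    IsPullback (ChGrp.twist i (aX.restrict i)).act (snd H (G ⊗ X)) (jQ aX aQ q₀)
      (jQ aX aQ q₀) := by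
  have tw_pt : ∀ {W : Over S} (h : W ⟶ H) (g : W ⟶ G) (x : W ⟶ X),
      lift h (lift g x) ≫ (ChGrp.twist i (aX.restrict i)).act
        = lift (g * (h ≫ i)⁻¹) (lift (h ≫ i) x ≫ aX.act) := by
    intro W h g x
    rw [ChGrp.lift_twist_act, AlgGrp.Action.lift_restrict_act]
  refine isPullback_of_lift ?_ ?_ ?_
  · apply AlgGrp.Action.hom_ext_lift₂
    intro W h w
    obtain ⟨g, x, rfl⟩ := BpA.exists_lift_eq w
    have e := orb_mul i aQ q₀ hQ (g * (h ≫ i)⁻¹) h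
    rw [inv_mul_cancel_right] at e
    rw [← Category.assoc, tw_pt, lift_snd_assoc, jQ_pt, jQ_pt, ← AlgGrp.Action.lift_mul_act,
      inv_mul_cancel_right, ← e]
  · intro W w₁ w₂ hw
    obtain ⟨g₁, x₁, rfl⟩ := BpA.exists_lift_eq w₁
    obtain ⟨g₂, x₂, rfl⟩ := BpA.exists_lift_eq w₂
    rw [jQ_pt, jQ_pt] at hw
    have c1 : g₁ ≫ aQ.orbitMap q₀ = g₂ ≫ aQ.orbitMap q₀ := by
      have := congrArg (fun t => t ≫ fst Q X) hw
      simpa only [lift_fst] using this
    have c2 : lift g₁ x₁ ≫ aX.act = lift g₂ x₂ ≫ aX.act := by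
      have := congrArg (fun t => t ≫ snd Q X) hw
      simpa only [lift_snd] using this
    obtain ⟨l, hl⟩ : ∃ l, l = hQ.2.1.lift g₂ g₁ c1.symm := ⟨_, rfl⟩
    have l1 : l ≫ fst G H = g₂ := by rw [hl, hQ.2.1.lift_fst]
    have l2 : l ≫ (G ◁ i) ≫ μ[G] = g₁ := by rw [hl, hQ.2.1.lift_snd]
    have el : lift g₂ (l ≫ snd G H) = l := by
      apply CartesianMonoidalCategory.hom_ext
      · rw [lift_fst, l1]
      · rw [lift_snd]
    have hg1 : g₁ = g₂ * ((l ≫ snd G H) ≫ i) := by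
      rw [← l2, ← el, lift_whiskerLeft_assoc, Hom.mul_def, lift_snd]
    have hi : (l ≫ snd G H)⁻¹ ≫ i = ((l ≫ snd G H) ≫ i)⁻¹ := GrpObj.inv_comp _ i
    have hx1 : x₁ = lift ((l ≫ snd G H)⁻¹ ≫ i) x₂ ≫ aX.act := by
      rw [← inv_act_act aX g₁ x₁, c2, ← AlgGrp.Action.lift_mul_act, hg1, hi, _root_.mul_inv_rev,
        inv_mul_cancel_right]
    refine ⟨lift (l ≫ snd G H)⁻¹ (lift g₂ x₂), ?_, lift_snd _ _⟩
    rw [tw_pt, hi, _root_.inv_inv, ← hg1, ← hi, ← hx1]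
  · intro W l l' h1 h2
    obtain ⟨h, w, rfl⟩ := BpA.exists_lift_eq l
    obtain ⟨h', w', rfl⟩ := BpA.exists_lift_eq l'
    rw [lift_snd, lift_snd] at h2
    subst h2
    obtain ⟨g, x, rfl⟩ := BpA.exists_lift_eq w
    rw [tw_pt, tw_pt] at h1
    have c := congrArg (fun t => t ≫ fst G X) h1
    simp only [lift_fst] at c
    have hi : h ≫ i = h' ≫ i := inv_injective (mul_left_cancel c)
    rw [i_inj i aQ q₀ hQ h h' hi]

include hQ in
/-- `Q × X` with the diagonal action is the balanced product `G ×^H X` -/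
theorem isBalProd_of_isHomog [K.IsStableUnderBaseChange] :
    ChGrp.IsBalProd K i (aX.restrict i) (aQ.prod aX) (jQ aX aQ q₀) :=
  ⟨jQ_equivariant aX aQ q₀, jQ_cart i aX aQ q₀ hQ,
    loc_of_isPullback K (jQ_sq aX aQ q₀) hQ.2.2⟩

end Groth.Agent.H3.BalQ
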