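import Mathlib
import Groth.Prelude.Def_AlgSt5
import Groth.Prelude.Def_NonAbH2
import Groth.Agent.H4.QsA
import Groth.Agent.H4.QstA
import Groth.Agent.H4.QstD
import Groth.Agent.H4.QstE
import Groth.Agent.Lib.Helper3.TorsorPush
import Groth.Agent.Lib.Helper3.StackDescent
import Groth.Agent.Lib.Helper3.QStk.Fpqc
import Groth.Agent.Lib.Helper3.BalQ.Main

/-!
# Push-forward of a torsor along a homomorphism to an affine group (helper3)

`BJ'` is an fpqc stack for `J'` affine over `S`; the push-forward `J' ×^J P` of a `J`-torsor `P`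
is obtained by gluing trivial `J'`-torsors along the sieve of maps over which `P` has a section.
-/

set_option autoImplicit false

universe u

open CategoryTheory CategoryTheory.Limits MonoidalCategory CartesianMonoidalCategory MonObj GrpObj
  AlgebraicGeometry

namespace Groth.Agent.H3.PushT

open Groth.Agent.H4 Groth.Agent.H3.BalQ Groth.Agent.H3.StackDescent

variable {S : Scheme.{u}} {K : Precoverage Scheme.{u}}

section Conv

variable {G : Over S} [GrpObj G]

/-- a pseudo-torsor over `S` as a cartesian square over the terminal object -/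
lemma cart_of_pseudo {E : Over S} (a : AlgGrp.Action G E) (h : NonAbH1.IsPseudoTorsorSch a) :
    IsPullback a.act (snd G E) (toUnit E) (toUnit E) := by
  have hΨ : IsIso (lift a.act (snd G E)) := h
  refine isPullback_of_lift (toUnit_unique _ _) ?_ ?_
  · intro W x y _
    obtain ⟨g, hg⟩ := TorsorPush.exists_act_eq a hΨ x y
    exact ⟨lift g y, hg, lift_snd _ _⟩
  · intro W l l' h1 h2
    obtain ⟨g, p, rfl⟩ := BpA.exists_lift_eq l
    obtain ⟨g', p', rfl⟩ := BpA.exists_lift_eq l'
    rw [lift_snd, lift_snd] at h2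
    subst h2
    rw [TorsorPush.act_cancel a hΨ g g' p h1]

/-- a torsor over `S` as an object of `BG` over the terminal object -/
noncomputable def ofTorsor (P : NonAbH1.TorsorSch G K) :
    AlgSt.QuotObj K G (AlgSt.trivAction G) where
  base := 𝟙_ (Over S)
  P := P.X
  act := P.act
  π := toUnit P.X
  cart := cart_of_pseudo P.act P.isTorsor.1
  loc := by
    obtain ⟨R, hR, h⟩ := P.isTorsor.2
    refine ⟨R, hR, fun S' f hf => ?_⟩
    obtain ⟨s, hs⟩ := h f hf
    refine ⟨s, ?_⟩
    change s ≫ (toUnit P.X).left = f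
    rw [QstE.toUnit_left]
    exact hs
  φ := toUnit P.X
  eqv := toUnit_unique _ _

/-- an object of `[X/G]` over the terminal object is a torsor over `S` -/
lemma torsor_of_base {X : Over S} {aX : AlgGrp.Action G X} (A : AlgSt.QuotObj K G aX)
    (hb : A.base = 𝟙_ (Over S)) : NonAbH1.IsTorsorFor K A.act := by
  obtain ⟨base, Pp, act, π, cart, loc, φ, eqv⟩ := A
  change base = 𝟙_ (Over S) at hb
  subst hb
  constructor
  · change IsIso (lift act.act (snd G Pp))
    have hπ : ∀ {W : Over S} (x y : W ⟶ Pp), x ≫ π = y ≫ π := fun x y => toUnit_unique _ _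
    refine ⟨cart.lift (fst Pp Pp) (snd Pp Pp) (hπ _ _), ?_, ?_⟩
    · apply cart.hom_ext
      · rw [Category.assoc, cart.lift_fst, lift_fst, Category.id_comp]
      · rw [Category.assoc, cart.lift_snd, lift_snd, Category.id_comp]
    · apply CartesianMonoidalCategory.hom_ext
      · rw [Category.assoc, lift_fst, cart.lift_fst, Category.id_comp]
      · rw [Category.assoc, lift_snd, cart.lift_snd, Category.id_comp]
  · obtain ⟨R, hR, h⟩ := loc
    refine ⟨R, hR, fun S' f hf => ?_⟩
    obtain ⟨s, hs⟩ := h f hf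
    refine ⟨s, ?_⟩
    have hs' : s ≫ π.left = f := hs
    have e : π.left = Pp.hom := by
      have := Over.w π
      simpa using this
    rw [← e]
    exact hs'

end Conv

section Push

variable {J J' : Over S} [GrpObj J] [GrpObj J'] (u : J ⟶ J') [IsMonHom u]
  (P : NonAbH1.TorsorSch J K)

lemma pcart : IsPullback P.act.act (snd J P.X) (toUnit P.X) (toUnit P.X) :=
  cart_of_pseudo P.act P.isTorsor.1

/-- the difference of two points of the torsor -/
noncomputable def dv {W : Over S} (x y : W ⟶ P.X) : W ⟶ J :=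
  (exists_dvd (pcart P) x y (toUnit_unique _ _)).choose

lemma dv_spec {W : Over S} (x y : W ⟶ P.X) : lift (dv P x y) y ≫ P.act.act = x :=
  (exists_dvd (pcart P) x y (toUnit_unique _ _)).choose_spec

lemma dv_unique {W : Over S} (x y : W ⟶ P.X) (g : W ⟶ J) (h : lift g y ≫ P.act.act = x) :
    g = dv P x y :=
  dvd_unique (pcart P) g (dv P x y) y (h.trans (dv_spec P x y).symm)

lemma dv_self {W : Over S} (x : W ⟶ P.X) : dv P x x = 1 :=
  (dv_unique P x x 1 (AlgGrp.Action.lift_one_act _ _)).symm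

lemma dv_mul {W : Over S} (x y z : W ⟶ P.X) : dv P x y * dv P y z = dv P x z :=
  dv_unique P x z _ (by rw [AlgGrp.Action.lift_mul_act, dv_spec, dv_spec])

lemma dv_comp {W' W : Over S} (w : W' ⟶ W) (x y : W ⟶ P.X) :
    w ≫ dv P x y = dv P (w ≫ x) (w ≫ y) :=
  dv_unique P _ _ _ (by rw [← comp_lift_assoc, dv_spec])

lemma dv_act {W : Over S} (g : W ⟶ J) (x y : W ⟶ P.X) :
    dv P (lift g x ≫ P.act.act) y = g * dv P x y :=
  (dv_unique P _ _ _ (by rw [AlgGrp.Action.lift_mul_act, dv_spec])).symm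

/-- the sieve of maps over which the torsor has a section -/
noncomputable abbrev RP : Sieve (𝟙_ (Over S)) := secSieve (ofTorsor P)

/-- a chosen section -/
noncomputable def sec (a : (RP P).arrows.category) : a.obj.left ⟶ P.X :=
  have h : ∃ s : a.obj.left ⟶ P.X, s ≫ toUnit P.X = a.obj.hom := a.property
  h.choose

/-- the transition element -/
noncomputable def gw {a b : (RP P).arrows.category} (w : a ⟶ b) : a.obj.left ⟶ J :=
  dv P (sec P a) (w.hom.left ≫ sec P b)

lemma gw_id (a : (RP P).arrows.category) : gw P (𝟙 a) = 1 := by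
  have e : (𝟙 a : a ⟶ a).hom.left = 𝟙 a.obj.left := rfl
  rw [gw, e, Category.id_comp, dv_self]

lemma gw_comp {a b c : (RP P).arrows.category} (w : a ⟶ b) (w' : b ⟶ c) :
    gw P (w ≫ w') = gw P w * (w.hom.left ≫ gw P w') := by
  have e : (w ≫ w').hom.left = w.hom.left ≫ w'.hom.left := rfl
  rw [gw, gw, gw, e, dv_comp, dv_mul, Category.assoc]

lemma dd_map_id_top (a : (RP P).arrows.category) :
    lift (fst J' a.obj.left * (snd J' a.obj.left ≫ (gw P (𝟙 a) ≫ u)))
      (snd J' a.obj.left ≫ (𝟙 a : a ⟶ a).hom.left) = 𝟙 _ := by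
  have e : (𝟙 a : a ⟶ a).hom.left = 𝟙 a.obj.left := rfl
  rw [gw_id, MonObj.one_comp, MonObj.comp_one, _root_.mul_one, e, Category.comp_id,
    lift_fst_snd]

lemma dd_map_comp_top {a b c : (RP P).arrows.category} (w : a ⟶ b) (w' : b ⟶ c) :
    lift (fst J' a.obj.left * (snd J' a.obj.left ≫ (gw P (w ≫ w') ≫ u)))
        (snd J' a.obj.left ≫ (w ≫ w').hom.left)
      = lift (fst J' a.obj.left * (snd J' a.obj.left ≫ (gw P w ≫ u)))
          (snd J' a.obj.left ≫ w.hom.left) ≫
        lift (fst J' b.obj.left * (snd J' b.obj.left ≫ (gw P w' ≫ u)))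
          (snd J' b.obj.left ≫ w'.hom.left) := by
  have e : (w ≫ w').hom.left = w.hom.left ≫ w'.hom.left := rfl
  apply AlgGrp.Action.hom_ext_lift₂
  intro W a' t
  rw [QsA.lift_rmul, ← Category.assoc (lift a' t), QsA.lift_rmul, QsA.lift_rmul, gw_comp,
    MonObj.mul_comp, MonObj.comp_mul, e, _root_.mul_assoc]
  simp only [Category.assoc]

variable [K.HasIsos]

/-- the descent datum of the push-forward -/
noncomputable def DD : Stk.sieveCat (RP P) ⥤ᵇ AlgSt.QuotSt K J' (AlgSt.trivAction J') where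
  toFunctor :=
    { obj := fun a =>
        (AlgSt.quotMap K J' (AlgSt.trivAction J')).obj (QstA.pt (toUnit a.obj.left))
      map := fun {a b} w =>
        QstD.rmulHom K (AlgSt.trivAction J') w.hom.left (toUnit _) (toUnit _) (gw P w ≫ u)
          (toUnit_unique _ _)
      map_id := fun a => by
        apply AlgSt.QuotObj.hom_ext
        · rfl
        · exact dd_map_id_top u P a
      map_comp := fun {a b c} w w' => by
        apply AlgSt.QuotObj.hom_ext
        · rfl
        · exact dd_map_comp_top u P w w' }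
  w := rfl

section Main

variable (s : Cocone (DD u P))

/-- the trivialisation of the glued torsor over an arrow of the sieve -/
noncomputable def topOf (a : (RP P).arrows.category) : J' ⊗ a.obj.left ⟶ s.pt.P := (s.ι a).top

/-- the image of the unit section -/
noncomputable def fOf (a : (RP P).arrows.category) : a.obj.left ⟶ s.pt.P :=
  lift (1 : a.obj.left ⟶ J') (𝟙 _) ≫ topOf u P s a

lemma topOf_eq (a : (RP P).arrows.category) :
    topOf u P s a = (J' ◁ fOf u P s a) ≫ s.pt.act.act :=
  QstE.top_eq_of_triv (T := a.obj.left) (x := toUnit a.obj.left) (A := s.pt) (s.ι a)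

lemma topOf_pt (a : (RP P).arrows.category) {W : Over S} (g' : W ⟶ J') (t : W ⟶ a.obj.left) :
    lift g' t ≫ topOf u P s a = lift g' (t ≫ fOf u P s a) ≫ s.pt.act.act := by
  conv_lhs => rw [topOf_eq]
  rw [lift_whiskerLeft_assoc]

lemma fOf_nat {a b : (RP P).arrows.category} (w : a ⟶ b) :
    fOf u P s a = lift (gw P w ≫ u) (w.hom.left ≫ fOf u P s b) ≫ s.pt.act.act := by
  have hw := congrArg (fun m => m.top) (s.w w)
  have hw' : lift (fst J' a.obj.left * (snd J' a.obj.left ≫ (gw P w ≫ u)))
      (snd J' a.obj.left ≫ w.hom.left) ≫ topOf u P s b = topOf u P s a := hw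
  rw [fOf, ← hw', ← Category.assoc, QsA.lift_rmul, _root_.one_mul, Category.id_comp,
    Category.id_comp, topOf_pt]

/-- the push-forward of a point -/
noncomputable def FF (a : (RP P).arrows.category) (p : a.obj.left ⟶ P.X) :
    a.obj.left ⟶ s.pt.P :=
  lift (dv P p (sec P a) ≫ u) (fOf u P s a) ≫ s.pt.act.act

lemma FF_act (a : (RP P).arrows.category) (g : a.obj.left ⟶ J) (p : a.obj.left ⟶ P.X) :
    FF u P s a (lift g p ≫ P.act.act) = lift (g ≫ u) (FF u P s a p) ≫ s.pt.act.act := by
  rw [FF, FF, dv_act, MonObj.mul_comp, AlgGrp.Action.lift_mul_act]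

lemma FF_nat {a b : (RP P).arrows.category} (w : a ⟶ b) (p : b.obj.left ⟶ P.X) :
    FF u P s a (w.hom.left ≫ p) = w.hom.left ≫ FF u P s b p := by
  rw [FF, FF, fOf_nat u P s w, ← AlgGrp.Action.lift_mul_act, ← MonObj.mul_comp, gw, dv_mul,
    ← dv_comp, comp_lift_assoc, Category.assoc]

omit [K.HasIsos] in
lemma mem0 : (RP P).arrows (toUnit P.X) := ⟨𝟙 P.X, toUnit_unique _ _⟩

omit [K.HasIsos] in
lemma mem1 : (RP P).arrows (toUnit (J ⊗ P.X)) := ⟨snd J P.X, toUnit_unique _ _⟩

/-- the object `P ⟶ S` of the sieve -/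
noncomputable def a0 : (RP P).arrows.category := mkObj (RP P) (toUnit P.X) (mem0 P)

/-- the object `J × P ⟶ S` of the sieve -/
noncomputable def a1 : (RP P).arrows.category := mkObj (RP P) (toUnit (J ⊗ P.X)) (mem1 P)

/-- the action as an arrow of the sieve -/
noncomputable def mAct : a1 P ⟶ a0 P :=
  ObjectProperty.homMk (Over.homMk P.act.act (toUnit_unique _ _))

/-- the projection as an arrow of the sieve -/
noncomputable def mSnd : a1 P ⟶ a0 P :=
  ObjectProperty.homMk (Over.homMk (snd J P.X) (toUnit_unique _ _))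

theorem exists_push_of_cocone :
    ∃ f : P.X ⟶ s.pt.P,
      P.act.act ≫ f = lift (fst J P.X ≫ u) (snd J P.X ≫ f) ≫ s.pt.act.act := by
  have e1 : FF u P s (a1 P) P.act.act = P.act.act ≫ FF u P s (a0 P) (𝟙 P.X) :=
    (congrArg (FF u P s (a1 P)) (Category.comp_id P.act.act).symm).trans
      (FF_nat u P s (mAct P) (𝟙 P.X))
  have e2 : FF u P s (a1 P) (snd J P.X) = snd J P.X ≫ FF u P s (a0 P) (𝟙 P.X) :=
    (congrArg (FF u P s (a1 P)) (Category.comp_id (snd J P.X)).symm).trans
      (FF_nat u P s (mSnd P) (𝟙 P.X))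
  have e4 : lift (fst J P.X) (snd J P.X) ≫ P.act.act = P.act.act := by
    rw [lift_fst_snd, Category.id_comp]
  have e3 : FF u P s (a1 P) P.act.act
      = lift (fst J P.X ≫ u) (FF u P s (a1 P) (snd J P.X)) ≫ s.pt.act.act :=
    (congrArg (FF u P s (a1 P)) e4.symm).trans
      (FF_act u P s (a1 P) (fst J P.X) (snd J P.X))
  exact ⟨FF u P s (a0 P) (𝟙 P.X), e1.symm.trans (e3.trans
    (congrArg (fun m => lift (fst J P.X ≫ u) m ≫ s.pt.act.act) e2))⟩

end Main

end Push

section Final

variable {J J' : Over S} [GrpObj J] [GrpObj J'] (u : J ⟶ J') [IsMonHom u]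

/-- **push-forward of an fpqc torsor** along a homomorphism to a group affine over `S` -/
theorem exists_pushforward [IsAffineHom J'.hom]
    (P : NonAbH1.TorsorSch J Scheme.fpqcPrecoverage) :
    ∃ P' : NonAbH1.TorsorSch J' Scheme.fpqcPrecoverage,
      NonAbH1.IsPushforwardAlongSch u P.act P'.act := by
  have hst : Stk.IsStack (QuotSh.J Scheme.fpqcPrecoverage S)
      (AlgSt.QuotSt Scheme.fpqcPrecoverage J' (AlgSt.trivAction J')) := QStk.isStack_fpqc
  have hR : RP P ∈ QuotSh.J Scheme.fpqcPrecoverage S (𝟙_ (Over S)) :=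
    secSieve_mem (ofTorsor P)
  obtain ⟨s⟩ := ((isStackFor_iff hst.1).mp (hst.2 (RP P) hR)).1 (DD u P)
  have hb : s.pt.base = 𝟙_ (Over S) := s.pt_proj
  obtain ⟨f, hf⟩ := exists_push_of_cocone u P s
  exact ⟨⟨s.pt.P, s.pt.act, torsor_of_base s.pt hb⟩, f, hf⟩

end Final

end Groth.Agent.H3.PushT
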